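import Groth.Agent.CAlgSmall.ProjAffine
import Groth.Agent.FlatMorPush.FiniteSet
import Groth.Prelude.Def_CohB1
import Mathlib.Topology.KrullDimension
import Mathlib.Topology.NoetherianSpace
import Mathlib.Topology.Sober

set_option autoImplicit false
set_option backward.isDefEq.respectTransparency false
universe u
open CategoryTheory CategoryTheory.Limits AlgebraicGeometry TopologicalSpace

namespace Groth.Agent.Dim14

/-- If finite sets lie in affine opens, `e + 1` affines cover a closed set of dimension `≤ e`. -/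
theorem exists_cover (X : Scheme.{u}) [NoetherianSpace X]
    (hX : ∀ E : Set X, E.Finite → ∃ U : X.Opens, IsAffineOpen U ∧ E ⊆ (U : Set X)) :
    ∀ (e : ℕ) (Z : Set X), IsClosed Z →
      (∀ T : IrreducibleCloseds X, (T : Set X) ⊆ Z → Order.height T < (e : ℕ∞)) →
      ∃ U : Fin e → X.Opens, (∀ i, IsAffineOpen (U i)) ∧ Z ⊆ ⋃ i, (U i : Set X)
  | 0, Z, _, h => ⟨fun i => i.elim0, fun i => i.elim0, fun x hx => absurd
      (h ⟨closure {x}, isIrreducible_singleton.closure, isClosed_closure⟩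
        (closure_minimal (Set.singleton_subset_iff.2 hx) (by assumption))) (by simp)⟩
  | e + 1, Z, hZ, h => by
    classical
    obtain ⟨F, hF, hFc, hFi, hFU⟩ := NoetherianSpace.exists_finite_set_isClosed_irreducible hZ
    choose g hg using fun t : F => QuasiSober.sober (hFi t.1 t.2) (hFc t.1 t.2)
    have : Finite F := hF.to_subtype
    obtain ⟨U, hU, hgU⟩ := hX (Set.range g) (Set.finite_range g)
    obtain ⟨V, hV, hVZ⟩ := exists_cover X hX e (Z ∩ (U : Set X)ᶜ) (hZ.inter U.isOpen.isClosed_compl)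
      fun T hT => by
        obtain ⟨t, ht, hTt⟩ := isIrreducible_iff_sUnion_isClosed.1 T.isIrreducible hF.toFinset
          (fun s hs => hFc s (hF.mem_toFinset.1 hs))
          (by rw [hF.coe_toFinset, ← hFU]; exact hT.trans Set.inter_subset_left)
        rw [hF.mem_toFinset] at ht
        have hlt : T < ⟨t, hFi t ht, hFc t ht⟩ := by
          refine lt_of_le_of_ne hTt fun he => ?_
          have hgT : g ⟨t, ht⟩ ∈ (T : Set X) := by rw [he]; exact (hg ⟨t, ht⟩).mem
          exact (hT hgT).2 (hgU ⟨⟨t, ht⟩, rfl⟩)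
        have h1 := h ⟨t, hFi t ht, hFc t ht⟩ (show t ⊆ Z from hFU ▸ Set.subset_sUnion_of_mem ht)
        have hne : Order.height T ≠ ⊤ := ne_top_of_le_ne_top (ne_top_of_lt h1) (Order.height_mono hlt.le)
        have h2 := (Order.height_add_one_le hlt).trans_lt h1
        rw [Nat.cast_add, Nat.cast_one] at h2
        exact (ENat.add_lt_add_iff_right ENat.one_ne_top).1 h2
    refine ⟨Fin.cons U V, Fin.cases hU hV, fun x hx => ?_⟩
    by_cases hxU : x ∈ (U : Set X)
    · exact Set.mem_iUnion.2 ⟨0, hxU⟩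
    · obtain ⟨i, hi⟩ := Set.mem_iUnion.1 (hVZ ⟨hx, hxU⟩)
      exact Set.mem_iUnion.2 ⟨i.succ, hi⟩

/-- Finite sets of points of a subscheme of `P^n` over an affine base lie in affine opens. -/
theorem exists_affineOpen {A : Type u} [CommRing A] (n : ℕ) {X : Scheme.{u}}
    (j : X ⟶ CohB1.ProjSpaceOver n (Spec (CommRingCat.of A))) [IsImmersion j] (E : Set X) (hE : E.Finite) :
    ∃ U : X.Opens, IsAffineOpen U ∧ E ⊆ (U : Set X) := by
  let π : CohB1.ProjSpaceOver n (Spec (CommRingCat.of A)) ⟶ CohB1.ProjSpace n (ULift.{u} ℤ) :=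
    pullback.fst _ _
  have : IsAffineHom π := MorphismProperty.pullback_fst _ _ inferInstance
  obtain ⟨V, hV, hEV, -⟩ := CAlgSmall.ProjAffine.exists_basicOpen_le
    (CohB1.polyGrading n (ULift.{u} ℤ)) ⊤ ((fun x => π (j x)) '' E) (hE.image _) (by simp)
  have hV' : IsAffineOpen (π ⁻¹ᵁ V) := hV.preimage π
  obtain ⟨f, hf, hfE⟩ := FlatMorPush.exists_basicOpen_finite hV' j.coborderRange (hE.image j)
    (Set.image_subset_iff.2 fun x _ => subset_coborder ⟨x, rfl⟩)
    (Set.image_subset_iff.2 fun x hx => hEV ⟨x, hx, rfl⟩)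
  let W := (CohB1.ProjSpaceOver n (Spec (CommRingCat.of A))).basicOpen f
  have hle : W ≤ j.coborderRange.ι.opensRange := (Scheme.Opens.opensRange_ι _).symm ▸ hf
  have hW : IsAffineOpen (j.coborderRange.ι ⁻¹ᵁ W) :=
    (hV'.basicOpen f).preimage_of_isOpenImmersion _ hle
  have haff := hW.preimage j.liftCoborder
  rw [Scheme.Hom.liftCoborder_preimage, Scheme.Hom.image_preimage_eq_opensRange_inf,
    inf_eq_right.2 hle] at haff
  exact ⟨j ⁻¹ᵁ W, haff, fun x hx => hfE ⟨x, hx, rfl⟩⟩

end Groth.Agent.Dim14
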